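import Mathlib
import Groth.Agent.Lib.Hens.SmoothLift

/-!
# Equivariant sections of smooth algebras over henselian local rings

An averaged vector field with linearisation the identity at the fixed point cuts out a stable
subscheme, etale at the point, hence with a unique section through it.
-/

universe u v

open IsLocalRing TensorProduct

namespace Groth.Agent.HensEquiv24

variable {A : Type u} [CommRing A] [IsLocalRing A] {B : Type u} [CommRing B] [Algebra A B]
  (x : B →ₐ[A] ResidueField A)

/-- The ideal generated by the squares of the point ideal and the maximal ideal of the base. -/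
noncomputable def N : Ideal B := RingHom.ker x * RingHom.ker x ⊔ (maximalIdeal A).map (algebraMap A B)

lemma N_le : N x ≤ RingHom.ker x := by
  refine sup_le Ideal.mul_le_left (Ideal.map_le_iff_le_comap.2 fun a ha => ?_)
  simp [Ideal.mem_comap, RingHom.mem_ker, AlgHom.commutes, ResidueField.algebraMap_eq,
    (residue_eq_zero_iff a).2 ha]

lemma sub_mem_ker (b : B) (a : A) (ha : residue A a = x b) : b - algebraMap A B a ∈ RingHom.ker x := by
  simp [RingHom.mem_ker, AlgHom.commutes, ResidueField.algebraMap_eq, ha]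

lemma algebraMap_mem_N {a : A} (ha : a ∈ maximalIdeal A) : algebraMap A B a ∈ N x :=
  Ideal.mem_sup_right (Ideal.mem_map_of_mem _ ha)

/-- A derivation which, at the point, looks like the Euler field. -/
def IsEuler (D : Derivation A B B) : Prop :=
  ∀ b a, residue A a = x b → D b - (b - algebraMap A B a) ∈ N x

theorem exists_euler [Module.Projective B (Ω[B⁄A])] : ∃ D : Derivation A B B, IsEuler x D := by
  classical
  let P := RingHom.ker x
  let NP : Submodule B P := Submodule.comap P.subtype (N x)
  choose l hl using fun b : B => residue_surjective (R := A) (x b)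
  let f : B → P ⧸ NP := fun b => Submodule.Quotient.mk ⟨b - algebraMap A B (l b), sub_mem_ker x b _ (hl b)⟩
  have hlm : ∀ a a' : A, residue A a = residue A a' → algebraMap A B a - algebraMap A B a' ∈ N x :=
    fun a a' h => by
      rw [← map_sub]
      exact algebraMap_mem_N x ((residue_eq_zero_iff _).1 (by rw [map_sub, h, sub_self]))
  let F : B →ₗ[A] P ⧸ NP :=
    { toFun := f
      map_add' := fun b c => by
        refine (Submodule.Quotient.eq NP).2 ?_
        show (b + c - algebraMap A B (l (b + c))) - ((b - algebraMap A B (l b)) + (c - algebraMap A B (l c))) ∈ N x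
        have := hlm (l b + l c) (l (b + c)) (by simp [hl])
        convert this using 1; rw [map_add]; ring
      map_smul' := fun a b => by
        refine (Submodule.Quotient.eq NP).2 ?_
        show (a • b - algebraMap A B (l (a • b))) - (a • (b - algebraMap A B (l b))) ∈ N x
        have := hlm (a * l b) (l (a • b)) (by simp [hl, Algebra.smul_def])
        convert this using 1; rw [Algebra.smul_def, Algebra.smul_def, map_mul]; ring }
  let δ : Derivation A B (P ⧸ NP) := Derivation.mk' F fun b c => by
    refine (Submodule.Quotient.eq NP).2 ?_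
    show (b * c - algebraMap A B (l (b * c))) -
      (b * (c - algebraMap A B (l c)) + c * (b - algebraMap A B (l b))) ∈ N x
    have h1 := hlm (l b * l c) (l (b * c)) (by simp [hl])
    have h2 : (b - algebraMap A B (l b)) * (c - algebraMap A B (l c)) ∈ N x :=
      Ideal.mem_sup_left (Ideal.mul_mem_mul (sub_mem_ker x b _ (hl b)) (sub_mem_ker x c _ (hl c)))
    have := sub_mem h1 h2
    convert this using 1; rw [map_mul]; ring
  obtain ⟨φ, hφ⟩ := Module.projective_lifting_property NP.mkQ δ.liftKaehlerDifferential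
    (Submodule.mkQ_surjective _)
  refine ⟨(P.subtype ∘ₗ φ).compDer (KaehlerDifferential.D A B), fun b a ha => ?_⟩
  have h := LinearMap.congr_fun hφ (KaehlerDifferential.D A B b)
  rw [δ.liftKaehlerDifferential_comp_D] at h
  have h' : ((φ (KaehlerDifferential.D A B b) : P) : B) - (b - algebraMap A B (l b)) ∈ N x :=
    (Submodule.Quotient.eq NP).1 h
  have := sub_mem h' (hlm (l b) a (by rw [hl, ha]))
  change ((φ (KaehlerDifferential.D A B b) : P) : B) - _ ∈ _
  convert this using 1; ring

variable {G : Type v} [Group G] [MulSemiringAction G A] [MulSemiringAction G B]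

theorem exists_invariant_euler [Finite G] [Module.Projective B (Ω[B⁄A])]
    (hsemi : ∀ (g : G) (a : A), g • algebraMap A B a = algebraMap A B (g • a))
    (hG : IsUnit ((Nat.card G : ℕ) : A)) (hfix : ∀ (g : G) (b : B), x (g • b) = x b) :
    ∃ D : Derivation A B B, IsEuler x D ∧ ∀ (g : G) (b : B), D (g • b) = g • D b := by
  classical
  haveI := Fintype.ofFinite G
  obtain ⟨D₀, hD₀⟩ := exists_euler x
  obtain ⟨u, hu⟩ := hG.exists_left_inv
  have hres : ∀ (g : G) (a : A), residue A (g • a) = residue A a := fun g a => by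
    have h := hfix g (algebraMap A B a)
    rwa [hsemi, AlgHom.commutes, AlgHom.commutes] at h
  have hug : ∀ g : G, g • u = u := fun g => by
    have h1 : (g • u) * (Nat.card G : A) = 1 := by
      have h := congrArg (g • ·) hu
      simp only [smul_mul', smul_one] at h
      rwa [← MulSemiringAction.toRingHom_apply G A g (Nat.card G : A), map_natCast] at h
    calc g • u = (g • u) * (u * (Nat.card G : A)) := by rw [hu, mul_one]
      _ = u := by rw [mul_comm u, ← mul_assoc, h1, one_mul]
  have hP : ∀ (g : G) (b : B), b ∈ RingHom.ker x → g • b ∈ RingHom.ker x := fun g b hb => by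
    rw [RingHom.mem_ker] at hb ⊢; rw [hfix, hb]
  have hN : ∀ (g : G) (b : B), b ∈ N x → g • b ∈ N x := fun g b hb => by
    have : N x ≤ (N x).comap (MulSemiringAction.toRingHom G B g) := by
      refine sup_le (Ideal.mul_le.2 fun p hp q hq => ?_) (Ideal.map_le_iff_le_comap.2 fun a ha => ?_)
      · show g • (p * q) ∈ N x
        rw [smul_mul']; exact Ideal.mem_sup_left (Ideal.mul_mem_mul (hP g p hp) (hP g q hq))
      · show g • algebraMap A B a ∈ N x
        rw [hsemi]
        exact algebraMap_mem_N x ((residue_eq_zero_iff _).1 (by rw [hres, (residue_eq_zero_iff a).2 ha]))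
    exact this hb
  let F : B →ₗ[A] B :=
    { toFun := fun b => algebraMap A B u * ∑ g : G, g • D₀ (g⁻¹ • b)
      map_add' := fun b c => by simp [smul_add, Finset.sum_add_distrib, mul_add]
      map_smul' := fun a b => by
        simp only [Algebra.smul_def, RingHom.id_apply, Finset.mul_sum, smul_mul', hsemi,
          Derivation.leibniz, Derivation.map_algebraMap, Algebra.algebraMap_self, add_zero, mul_zero,
          smul_inv_smul]
        refine Finset.sum_congr rfl fun g _ => ?_
        ring }
  let D : Derivation A B B := Derivation.mk' F fun b c => by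
    show algebraMap A B u * ∑ g : G, g • D₀ (g⁻¹ • (b * c)) =
      b * (algebraMap A B u * ∑ g : G, g • D₀ (g⁻¹ • c)) + c * (algebraMap A B u * ∑ g : G, g • D₀ (g⁻¹ • b))
    simp only [Finset.mul_sum, ← Finset.sum_add_distrib, smul_mul', Derivation.leibniz, smul_eq_mul,
      smul_add, smul_inv_smul]
    refine Finset.sum_congr rfl fun g _ => ?_
    ring
  refine ⟨D, fun b a ha => ?_, fun h b => ?_⟩
  · show algebraMap A B u * ∑ g : G, g • D₀ (g⁻¹ • b) - (b - algebraMap A B a) ∈ N x
    have e : algebraMap A B u * ∑ g : G, g • D₀ (g⁻¹ • b) - (b - algebraMap A B a) =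
        algebraMap A B u * ∑ g : G, (g • D₀ (g⁻¹ • b) - (b - algebraMap A B a)) := by
      rw [Finset.sum_sub_distrib, mul_sub, Finset.sum_const, Finset.card_univ, nsmul_eq_mul, ← mul_assoc,
        ← map_natCast (algebraMap A B), ← map_mul, ← Nat.card_eq_fintype_card, hu, map_one, one_mul]
    rw [e]
    refine Ideal.mul_mem_left _ _ (sum_mem fun g _ => ?_)
    have h1 := hN g _ (hD₀ (g⁻¹ • b) a (by rw [hfix, ha]))
    have h2 : algebraMap A B (g • a) - algebraMap A B a ∈ N x := by
      rw [← map_sub]
      exact algebraMap_mem_N x ((residue_eq_zero_iff _).1 (by rw [map_sub, hres, sub_self]))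
    rw [smul_sub, smul_sub, smul_inv_smul, hsemi] at h1
    have := sub_mem h1 h2
    convert this using 1; ring
  · show algebraMap A B u * ∑ g : G, g • D₀ (g⁻¹ • h • b) = h • (algebraMap A B u * ∑ g : G, g • D₀ (g⁻¹ • b))
    rw [smul_mul', hsemi, hug, Finset.smul_sum]
    congr 1
    refine Fintype.sum_equiv (Equiv.mulLeft h⁻¹) _ _ fun g => ?_
    simp [mul_smul]

lemma D_N_le {D : Derivation A B B} {J : Ideal B} (hJ : ∀ b, D b ∈ J) {z : B} (hz : z ∈ N x) :
    D z ∈ RingHom.ker x * J := by
  let I : Ideal B :=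
    { carrier := {z | z ∈ RingHom.ker x ∧ D z ∈ RingHom.ker x * J}
      add_mem' := fun ha hb => ⟨add_mem ha.1 hb.1, by rw [map_add]; exact add_mem ha.2 hb.2⟩
      zero_mem' := ⟨zero_mem _, by rw [map_zero]; exact zero_mem _⟩
      smul_mem' := fun r b hb => ⟨Ideal.mul_mem_left _ _ hb.1, by
        rw [smul_eq_mul, D.leibniz, smul_eq_mul, smul_eq_mul]
        exact add_mem (Ideal.mul_mem_left _ _ hb.2) (Ideal.mul_mem_mul hb.1 (hJ r))⟩ }
  have : N x ≤ I := sup_le (Ideal.mul_le.2 fun p hp q hq => ⟨Ideal.mul_mem_right _ _ hp, by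
      rw [D.leibniz, smul_eq_mul, smul_eq_mul]
      exact add_mem (Ideal.mul_mem_mul hp (hJ q)) (Ideal.mul_mem_mul hq (hJ p))⟩)
    (Ideal.map_le_iff_le_comap.2 fun a ha => ⟨N_le x (algebraMap_mem_N x ha), by
      rw [D.map_algebraMap]; exact zero_mem _⟩)
  exact (this hz).2

/-- Sections through the point killing an Euler field are unique. -/
theorem section_unique [Algebra.FiniteType A B] {D : Derivation A B B} (hD : IsEuler x D)
    (s t : B →ₐ[A] A) (hs : ∀ b, residue A (s b) = x b) (ht : ∀ b, residue A (t b) = x b)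
    (hsD : ∀ b, s (D b) = 0) (htD : ∀ b, t (D b) = 0) : s = t := by
  classical
  obtain ⟨S, hS⟩ := Algebra.FiniteType.out (R := A) (A := B)
  let K : Ideal A := Ideal.span ((fun b => s b - t b) '' (S : Set B))
  have hK : ∀ b, s b - t b ∈ K := fun b => by
    have hb : b ∈ Algebra.adjoin A (S : Set B) := by rw [hS]; trivial
    induction hb using Algebra.adjoin_induction with
    | mem b hb => exact Ideal.subset_span ⟨b, hb, rfl⟩
    | algebraMap a => simp
    | add b c _ _ hb hc => convert add_mem hb hc using 1; rw [map_add, map_add]; ring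
    | mul b c _ _ hb hc =>
      convert add_mem (Ideal.mul_mem_left _ (s b) hc) (Ideal.mul_mem_right (t c) _ hb) using 1
      rw [map_mul, map_mul]; ring
  have hPm : ∀ (w : B →ₐ[A] A), (∀ b, residue A (w b) = x b) → ∀ p ∈ RingHom.ker x, w p ∈ maximalIdeal A :=
    fun w hw p hp => (residue_eq_zero_iff _).1 (by rw [hw]; exact hp)
  let I : Ideal B :=
    { carrier := {z | z ∈ RingHom.ker x ∧ s z - t z ∈ maximalIdeal A * K}
      add_mem' := fun ha hb => ⟨add_mem ha.1 hb.1, by convert add_mem ha.2 hb.2 using 1; simp; ring⟩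
      zero_mem' := ⟨zero_mem _, by simp⟩
      smul_mem' := fun r b hb => ⟨Ideal.mul_mem_left _ _ hb.1, by
        convert add_mem (Ideal.mul_mem_left _ (s r) hb.2) (Ideal.mul_mem_mul (hPm t ht b hb.1) (hK r))
          using 1
        simp; ring⟩ }
  have hN : N x ≤ I := sup_le (Ideal.mul_le.2 fun p hp q hq => ⟨Ideal.mul_mem_right _ _ hp, by
      convert add_mem (Ideal.mul_mem_mul (hPm s hs p hp) (hK q)) (Ideal.mul_mem_mul (hPm t ht q hq) (hK p))
        using 1
      simp; ring⟩)
    (Ideal.map_le_iff_le_comap.2 fun a ha => ⟨N_le x (algebraMap_mem_N x ha), by simp⟩)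
  have hKm : K ≤ maximalIdeal A • K := by
    rw [smul_eq_mul]
    refine Ideal.span_le.2 ?_
    rintro _ ⟨b, -, rfl⟩
    have h := (hN (hD b (s b) (hs b))).2
    simp only [map_sub, hsD, htD, AlgHom.commutes] at h
    simp only [Algebra.algebraMap_self, RingHom.id_apply] at h
    show s b - t b ∈ maximalIdeal A * K
    rw [← neg_sub]
    refine neg_mem ?_
    convert h using 1
    ring
  have hbot : K = ⊥ := Submodule.eq_bot_of_le_smul_of_le_jacobson_bot _ _
    (Submodule.fg_span (S.finite_toSet.image _)) hKm (maximalIdeal_le_jacobson _)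
  exact AlgHom.ext fun b => sub_eq_zero.1 (by simpa [hbot] using hK b)

/-- A derivation whose own values are, up to squares, generated by its values on them cuts out a
formally smooth quotient. -/
theorem formallySmooth_quotient [Algebra.FormallySmooth A B] (D : Derivation A B B) (J : Ideal B)
    (hJfg : J.FG) (hDJ : ∀ b, D b ∈ J) (hgen : J ≤ J * J ⊔ Ideal.span (D '' (J : Set B))) :
    Algebra.FormallySmooth A (B ⧸ J) := by
  have hker : RingHom.ker (algebraMap B (B ⧸ J)) = J := Ideal.mk_ker
  let I := RingHom.ker (algebraMap B (B ⧸ J))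
  let φ : Ω[B⁄A] →ₗ[B] I := D.liftKaehlerDifferential.codRestrict I fun w => by
    induction (KaehlerDifferential.span_range_derivation A B).ge (Submodule.mem_top (x := w))
      using Submodule.span_induction with
    | mem w hw => obtain ⟨b, rfl⟩ := hw; rw [Derivation.liftKaehlerDifferential_comp_D]; exact hker.ge (hDJ b)
    | zero => simp
    | add v w _ _ hv hw => rw [map_add]; exact add_mem hv hw
    | smul r w _ hw => rw [map_smul]; exact Submodule.smul_mem _ _ hw
  let ψ : Ω[B⁄A] →ₗ[B] I.Cotangent := I.toCotangent ∘ₗ φ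
  have hψ : J • (⊤ : Submodule B (Ω[B⁄A])) ≤ LinearMap.ker ψ := Submodule.smul_le.2 fun r hr w _ => by
    have hr' : r ∈ I := hker.ge hr
    rw [LinearMap.mem_ker, map_smul]
    exact (Ideal.toCotangent_eq_zero I (r • φ w)).2 (by
      rw [pow_two]; exact Ideal.mul_mem_mul hr' (φ w).2)
  let l : (B ⧸ J) ⊗[B] Ω[B⁄A] →ₗ[B] I.Cotangent :=
    Submodule.liftQ _ ψ hψ ∘ₗ (TensorProduct.quotTensorEquivQuotSMul (Ω[B⁄A]) J).toLinearMap
  let E : I.Cotangent →ₗ[B] I.Cotangent := l ∘ₗ KaehlerDifferential.kerCotangentToTensor A B (B ⧸ J)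
  have hE : ∀ j : I, E (I.toCotangent j) = ψ (KaehlerDifferential.D A B j.1) := fun j => by
    show l (KaehlerDifferential.kerCotangentToTensor A B (B ⧸ J) (I.toCotangent j)) = _
    rw [KaehlerDifferential.kerCotangentToTensor_toCotangent]
    show Submodule.liftQ _ ψ hψ (TensorProduct.quotTensorEquivQuotSMul (Ω[B⁄A]) J
      ((1 : B ⧸ J) ⊗ₜ KaehlerDifferential.D A B j.1)) = _
    rw [← map_one (Ideal.Quotient.mk J), TensorProduct.quotTensorEquivQuotSMul_mk_tmul, one_smul,
      Submodule.liftQ_apply]
  have hsurj : Function.Surjective E := by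
    let S : Submodule B I := (LinearMap.range E).comap I.toCotangent
    have hS : J ≤ Submodule.map I.subtype S := hgen.trans (sup_le (Ideal.mul_le.2 fun p hp q hq => by
      refine ⟨⟨p * q, hker.ge (Ideal.mul_mem_right _ _ hp)⟩, ?_, rfl⟩
      show I.toCotangent _ ∈ LinearMap.range E
      rw [(Ideal.toCotangent_eq_zero I _).2 (by rw [pow_two]; exact Ideal.mul_mem_mul (hker.ge hp) (hker.ge hq))]
      exact zero_mem _) (Ideal.span_le.2 (by
      rintro _ ⟨j, hj, rfl⟩
      refine ⟨φ (KaehlerDifferential.D A B j), ⟨I.toCotangent ⟨j, hker.ge hj⟩, hE _⟩, ?_⟩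
      exact Derivation.liftKaehlerDifferential_comp_D D j)))
    intro c
    obtain ⟨⟨j, hj⟩, rfl⟩ := I.toCotangent_surjective c
    obtain ⟨k, hk, hk'⟩ := hS (hker.le hj)
    have : k = ⟨j, hj⟩ := Subtype.ext hk'
    exact this ▸ hk
  haveI : Module.Finite B I := Module.Finite.iff_fg.2 (show I.FG by simpa only [I, hker] using hJfg)
  haveI : Module.Finite B I.Cotangent := Module.Finite.of_surjective _ I.toCotangent_surjective
  let e : I.Cotangent ≃ₗ[B] I.Cotangent :=
    LinearEquiv.ofBijective E (OrzechProperty.bijective_of_surjective_endomorphism E hsurj)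
  exact (Algebra.FormallySmooth.iff_split_injection (R := A) Ideal.Quotient.mk_surjective).2
    ⟨e.symm.toLinearMap ∘ₗ l, LinearMap.ext fun c => e.symm_apply_apply c⟩

end Groth.Agent.HensEquiv24
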