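import Groth.Agent.Lib.HensEquiv24.Basic

/-!
# Existence of equivariant sections of smooth algebras over henselian local rings
-/

universe u v

open IsLocalRing TensorProduct

namespace Groth.Agent.HensEquiv24

variable {A : Type u} [CommRing A] [HenselianLocalRing A] {B : Type u} [CommRing B] [Algebra A B]
  [Algebra.Smooth A B] (x : B →ₐ[A] ResidueField A)

theorem exists_section_killing {D : Derivation A B B} (hD : IsEuler x D) :
    ∃ s : B →ₐ[A] A, (∀ b, residue A (s b) = x b) ∧ ∀ b, s (D b) = 0 := by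
  classical
  let P := RingHom.ker x
  let J₀ : Ideal B := Ideal.span (Set.range D)
  choose l hl using fun b : B => residue_surjective (R := A) (x b)
  have hDJ₀ : ∀ b, D b ∈ J₀ := fun b => Ideal.subset_span ⟨b, rfl⟩
  have hDP : ∀ b, D b ∈ P := fun b => by
    have h := add_mem (N_le x (hD b (l b) (hl b))) (sub_mem_ker x b _ (hl b))
    convert h using 1; ring
  have hJ₀fg : J₀.FG := by
    obtain ⟨S, hS⟩ := Algebra.FiniteType.out (R := A) (A := B)
    suffices h : J₀ = Ideal.span (D '' (S : Set B)) by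
      rw [h]; exact Submodule.fg_span (S.finite_toSet.image _)
    refine le_antisymm (Ideal.span_le.2 ?_) (Ideal.span_mono (Set.image_subset_range _ _))
    rintro _ ⟨b, rfl⟩
    have hb : b ∈ Algebra.adjoin A (S : Set B) := by rw [hS]; trivial
    induction hb using Algebra.adjoin_induction with
    | mem b hb => exact Ideal.subset_span ⟨b, hb, rfl⟩
    | algebraMap a => simp
    | add b c _ _ hb hc => rw [map_add]; exact add_mem hb hc
    | mul b c _ _ hb hc =>
      rw [D.leibniz]; exact add_mem (Submodule.smul_mem _ _ hc) (Submodule.smul_mem _ _ hb)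
  let R₀ : Ideal B := J₀ * J₀ ⊔ Ideal.span (D '' (J₀ : Set B))
  have hJR : J₀ ≤ P * J₀ ⊔ R₀ := Ideal.span_le.2 (by
    rintro _ ⟨b, rfl⟩
    have h1 : D (D b - (b - algebraMap A B (l b))) ∈ P * J₀ := D_N_le x hDJ₀ (hD b (l b) (hl b))
    rw [map_sub, map_sub, D.map_algebraMap, sub_zero] at h1
    have h2 : D (D b) ∈ R₀ := Ideal.mem_sup_right (Ideal.subset_span ⟨D b, hDJ₀ b, rfl⟩)
    have := sub_mem (Ideal.mem_sup_right (S := P * J₀) h2) (Ideal.mem_sup_left (T := R₀) h1)
    show D b ∈ P * J₀ ⊔ R₀
    convert this using 1; ring)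
  obtain ⟨c, hc, hcJ⟩ : ∃ c : B, c - 1 ∈ P ∧ ∀ j ∈ J₀, c * j ∈ R₀ := by
    obtain ⟨c, hc, hc'⟩ := Submodule.exists_sub_one_mem_and_smul_eq_zero_of_fg_of_le_smul P
      (Submodule.map R₀.mkQ J₀) (Submodule.FG.map _ hJ₀fg) (by
        refine (Submodule.map_mono hJR).trans ?_
        rw [Submodule.map_sup, Submodule.mkQ_map_self, sup_bot_eq, ← smul_eq_mul, Submodule.map_smul''])
    refine ⟨c, hc, fun j hj => ?_⟩
    have h := hc' _ ⟨j, hj, rfl⟩
    rw [← map_smul, Submodule.mkQ_apply, Submodule.Quotient.mk_eq_zero] at h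
    exact h
  let B' := Localization.Away c
  let α := algebraMap B B'
  haveI : IsScalarTower A B B' := inferInstance
  obtain ⟨Φ, hΦ⟩ : ∃ Φ : Ω[B'⁄A] →ₗ[B] B', ∀ b, Φ (KaehlerDifferential.D A B' (α b)) = α (D b) := by
    refine ⟨IsLocalizedModule.lift (Submonoid.powers c) (KaehlerDifferential.map A A B B')
      (Algebra.linearMap B B' ∘ₗ D.liftKaehlerDifferential) (fun m => (Module.End.isUnit_iff _).2
        (by
        obtain ⟨w, hw⟩ := IsLocalization.map_units B' m
        have hb : ∀ z : B', algebraMap B (Module.End B B') m z = w * z := fun z => by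
          rw [Module.algebraMap_end_apply, Algebra.smul_def, hw]
        exact ⟨fun z z' h => by rwa [hb, hb, Units.mul_right_inj] at h,
          fun z => ⟨w⁻¹ * z, by rw [hb, Units.mul_inv_cancel_left]⟩⟩)), fun b => ?_⟩
    rw [← KaehlerDifferential.map_D A A B B' b, IsLocalizedModule.lift_apply]
    show α (D.liftKaehlerDifferential _) = _
    rw [Derivation.liftKaehlerDifferential_comp_D]
  let Φ' : Ω[B'⁄A] →ₗ[B'] B' := Φ.extendScalarsOfIsLocalization (Submonoid.powers c) B'
  let D' : Derivation A B' B' := Φ'.compDer (KaehlerDifferential.D A B')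
  have hD' : ∀ b, D' (α b) = α (D b) := hΦ
  let J : Ideal B' := J₀.map α
  have hD'J : ∀ z, D' z ∈ J := fun z => by
    obtain ⟨⟨b, m⟩, hz⟩ := IsLocalization.surj (Submonoid.powers c) z
    have h := congrArg D' hz
    rw [D'.leibniz, hD', hD', smul_eq_mul, smul_eq_mul] at h
    have h' : α (m : B) * D' z ∈ J := by
      have := sub_mem (Ideal.mem_map_of_mem α (hDJ₀ b)) (Ideal.mul_mem_left J z (Ideal.mem_map_of_mem α (hDJ₀ m)))
      convert this using 1
      rw [← h]; ring
    exact (Ideal.unit_mul_mem_iff_mem J (IsLocalization.map_units B' m)).1 h'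
  have hgen : J ≤ J * J ⊔ Ideal.span (D' '' (J : Set B')) := Ideal.map_le_iff_le_comap.2 fun j hj => by
    have hR : R₀ ≤ (J * J ⊔ Ideal.span (D' '' (J : Set B'))).comap α := sup_le
      (Ideal.mul_le.2 fun p hp q hq => by
        rw [Ideal.mem_comap, map_mul]
        exact Ideal.mem_sup_left (Ideal.mul_mem_mul (Ideal.mem_map_of_mem α hp) (Ideal.mem_map_of_mem α hq)))
      (Ideal.span_le.2 (by
        rintro _ ⟨k, hk, rfl⟩
        exact Ideal.mem_sup_right (Ideal.subset_span ⟨α k, Ideal.mem_map_of_mem α hk, hD' k⟩)))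
    have h := hR (hcJ j hj)
    rw [Ideal.mem_comap, map_mul] at h
    rw [Ideal.mem_comap]
    exact (Ideal.unit_mul_mem_iff_mem _ (show IsUnit (α c) from IsLocalization.Away.algebraMap_isUnit c)).1 h
  haveI : Algebra.Smooth B B' := Algebra.Smooth.of_isLocalization_Away c
  haveI : Algebra.Smooth A B' := Algebra.Smooth.comp A B B'
  haveI := formallySmooth_quotient D' J (hJ₀fg.map α) hD'J hgen
  haveI : Algebra.FinitePresentation A (B' ⧸ J) := Algebra.FinitePresentation.quotient (hJ₀fg.map α)
  haveI : Algebra.Smooth A (B' ⧸ J) := ⟨inferInstance, inferInstance⟩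
  have hxc : IsUnit (x.toRingHom c) := by
    have : x c = 1 := by
      have h : x (c - 1) = 0 := hc
      rwa [map_sub, map_one, sub_eq_zero] at h
    simp [this]
  let x' : B' →ₐ[A] ResidueField A :=
    { IsLocalization.Away.lift c hxc with
      commutes' := fun a => by
        show IsLocalization.Away.lift c hxc (algebraMap A B' a) = _
        rw [IsScalarTower.algebraMap_apply A B B', IsLocalization.Away.lift_eq]
        exact x.commutes a }
  have hx' : ∀ b, x' (α b) = x b := fun b => IsLocalization.Away.lift_eq c hxc b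
  have hJx : ∀ z ∈ J, x' z = 0 := fun z hz => by
    have h : J ≤ RingHom.ker x' := Ideal.map_le_iff_le_comap.2 (Ideal.span_le.2 (by
      rintro _ ⟨b, rfl⟩
      show x' (α (D b)) = 0
      rw [hx']; exact hDP b))
    exact h hz
  let σ : (B' ⧸ J) →ₐ[A] A ⧸ maximalIdeal A := Ideal.Quotient.liftₐ J x' hJx
  obtain ⟨τ, hτ⟩ := Hens.exists_smooth_lift_of_henselianRing
    (inferInstance : HenselianRing A (maximalIdeal A)) σ
  refine ⟨τ.comp ((Ideal.Quotient.mkₐ A J).comp (IsScalarTower.toAlgHom A B B')), fun b => ?_, fun b => ?_⟩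
  · exact (DFunLike.congr_fun hτ _).trans (hx' b)
  · show τ (Ideal.Quotient.mk J (α (D b))) = 0
    rw [Ideal.Quotient.eq_zero_iff_mem.2 (Ideal.mem_map_of_mem α (hDJ₀ b)), map_zero]

/-- Equivariant sections of a smooth algebra through a fixed residual point. -/
theorem exists_equivariant_section {G : Type v} [Group G] [Finite G] [MulSemiringAction G A]
    [MulSemiringAction G B] (hsemi : ∀ (g : G) (a : A), g • algebraMap A B a = algebraMap A B (g • a))
    (hG : IsUnit ((Nat.card G : ℕ) : A)) (hfix : ∀ (g : G) (b : B), x (g • b) = x b) :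
    ∃ s : B →ₐ[A] A, (∀ b, residue A (s b) = x b) ∧ ∀ (g : G) (b : B), s (g • b) = g • s b := by
  obtain ⟨D, hD, hDG⟩ := exists_invariant_euler x hsemi hG hfix
  obtain ⟨s, hs, hsD⟩ := exists_section_killing x hD
  have hres : ∀ (g : G) (a : A), residue A (g • a) = residue A a := fun g a => by
    have h := hfix g (algebraMap A B a)
    rwa [hsemi, AlgHom.commutes, AlgHom.commutes] at h
  refine ⟨s, hs, fun g b => ?_⟩
  let t : B →ₐ[A] A :=
    { (MulSemiringAction.toRingHom G A g⁻¹).comp (s.toRingHom.comp (MulSemiringAction.toRingHom G B g)) with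
      commutes' := fun a => by
        show g⁻¹ • s (g • algebraMap A B a) = _
        rw [hsemi, AlgHom.commutes]; simp }
  have ht : t = s := section_unique x hD t s
    (fun c => by show residue A (g⁻¹ • s (g • c)) = x c; rw [hres, hs, hfix]) hs
    (fun c => by show g⁻¹ • s (g • D c) = 0; rw [← hDG, hsD, smul_zero]) hsD
  have h : g⁻¹ • s (g • b) = s b := DFunLike.congr_fun ht b
  rw [← h, smul_inv_smul]

end Groth.Agent.HensEquiv24
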